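/-
A group `4 ∘ 2^(1+4)` of isometries in standard coordinates.
-/
import Cfsg.Agent.Lib.MaxSub.SUFour.Basic
import Cfsg.Agent.Lib.PauliFour.Common
import Cfsg.Agent.Lib.PauliFour.Vectors

set_option autoImplicit false
set_option maxHeartbeats 800000
set_option linter.unusedSectionVars false

namespace CfsgLib.MaxSub.SUFour.Klein

open Matrix Cfsg Cfsg.Geo CfsgLib.UnitaryTransvection CfsgLib.PauliFour
open CfsgLib.MaxSub.PairSU (h_zero)

variable {F : Type*} [Field F] [Fintype F] {q : ℕ} {hF : Fintype.card F = q ^ 2}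
  {R : Subgroup (GL (Fin 4) F)}

local notation "V" => Fin 4 → F
local notation "h" => Cfsg.hermForm 4 F q
local notation "σ" => frob hF
local notation "M4" => Matrix (Fin 4) (Fin 4) F

/-- The five standard generators. -/
def std (i : F) : Fin 5 → Matrix (Fin 4) (Fin 4) F :=
  ![!![i, 0, 0, 0; 0, i, 0, 0; 0, 0, i, 0; 0, 0, 0, i],
    !![1, 0, 0, 0; 0, -1, 0, 0; 0, 0, 1, 0; 0, 0, 0, -1],
    !![0, 1, 0, 0; 1, 0, 0, 0; 0, 0, 0, 1; 0, 0, 1, 0],
    !![1, 0, 0, 0; 0, 1, 0, 0; 0, 0, -1, 0; 0, 0, 0, -1],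
    !![0, 0, 1, 0; 0, 0, 0, 1; 1, 0, 0, 0; 0, 1, 0, 0]]

theorem std_det {i : F} (hi : i * i = -1) (t : Fin 5) : (std i t).det = 1 := by
  rw [Matrix.det_succ_row_zero]
  fin_cases t <;> simp [std, Matrix.det_fin_three, Fin.sum_univ_succ, Fin.succAbove]
  linear_combination (i * i - 1) * hi

include hF

/-- Standard coordinates and generators. -/
theorem exists_coords (hR : Sys R) (hk : Nat.card (Subgroup.center R) = 4) (hU : R ≤ Cfsg.GU 4 F q)
    {i : F} (hi : i * i = -1) :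
    ∃ (T : GL (Fin 4) F) (x : Fin 5 → GL (Fin 4) F), T ∈ Cfsg.GU 4 F q ∧
      (∀ t, x t ∈ R ∧ (x t : M4) * (T : M4) = (T : M4) * std i t) ∧ R ≤ Subgroup.closure (Set.range x) := by
  classical
  haveI := hR.nonempty
  have h2 := hR.two
  have hi0 : i ≠ 0 := fun e => by rw [e, zero_mul, eq_comm, neg_eq_zero] at hi; exact one_ne_zero hi
  obtain ⟨u, hu⟩ : ∃ u : Fˣ, (u : F) = i := ⟨Units.mk0 i hi0, rfl⟩
  have hu4 : u ^ 4 = 1 := Units.ext (by
    rw [Units.val_pow_eq_pow_val, Units.val_one, hu]; linear_combination (i * i - 1) * hi)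
  have hiR : sc u ∈ R := hR.scalar_mem hk hu4
  have hii : (sc u : GL (Fin 4) F) * sc u = -1 := Units.ext (by
    rw [← map_mul, coe_sc, Units.val_mul, hu, hi, Units.val_neg, Units.val_one, neg_one_smul])
  obtain ⟨f⟩ := hR.exists_frame (Or.inl ⟨sc u, hiR, hii, sc_comm u⟩)
  obtain ⟨c', hc'⟩ : ∃ c', c' = sc u * f.c := ⟨_, rfl⟩
  obtain ⟨d', hd'⟩ : ∃ d', d' = sc u * f.d := ⟨_, rfl⟩
  have hcc : c' * c' = 1 := by
    rw [hc', show sc u * f.c * (sc u * f.c) = sc u * (f.c * sc u) * f.c by group, ← sc_comm,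
      show sc u * (sc u * f.c) * f.c = sc u * sc u * (f.c * f.c) by group, hii, f.cc, neg_mul, one_mul, neg_neg]
  have hdd : d' * d' = 1 := by
    rw [hd', show sc u * f.d * (sc u * f.d) = sc u * (f.d * sc u) * f.d by group, ← sc_comm,
      show sc u * (sc u * f.d) * f.d = sc u * sc u * (f.d * f.d) by group, hii, f.dd, neg_mul, one_mul, neg_neg]
  have hscc : ∀ x y : GL (Fin 4) F, sc u * x * (sc u * y) = sc u * sc u * (x * y) := fun x y => by
    rw [show sc u * x * (sc u * y) = sc u * (x * sc u) * y by group, ← sc_comm]; group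
  have hdc : d' * c' = -(c' * d') := by
    rw [hc', hd', hscc, hscc, f.dc, mul_neg]
  have hca : c' * f.a = f.a * c' := by rw [hc', mul_assoc, f.ca, ← mul_assoc, sc_comm, mul_assoc]
  have hcb : c' * f.b = f.b * c' := by rw [hc', mul_assoc, f.cb, ← mul_assoc, sc_comm, mul_assoc]
  have hda : d' * f.a = f.a * d' := by rw [hd', mul_assoc, f.da, ← mul_assoc, sc_comm, mul_assoc]
  have hdb : d' * f.b = f.b * d' := by rw [hd', mul_assoc, f.db, ← mul_assoc, sc_comm, mul_assoc]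
  have hc'R : c' ∈ R := hc' ▸ mul_mem hiR f.hc
  have hd'R : d' ∈ R := hd' ▸ mul_mem hiR f.hd
  obtain ⟨A, hA⟩ : ∃ A : M4, A = f.a := ⟨_, rfl⟩
  obtain ⟨B, hB⟩ : ∃ B : M4, B = f.b := ⟨_, rfl⟩
  obtain ⟨C, hC⟩ : ∃ C : M4, C = c' := ⟨_, rfl⟩
  obtain ⟨D, hD⟩ : ∃ D : M4, D = d' := ⟨_, rfl⟩
  have mk : ∀ {x y : GL (Fin 4) F}, x = y → (x : M4) = (y : M4) := fun e => congrArg Units.val e
  have AA : A * A = 1 := hA ▸ mk f.aa
  have BB : B * B = 1 := hB ▸ mk f.bb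
  have CC : C * C = 1 := hC ▸ mk hcc
  have DD : D * D = 1 := hD ▸ mk hdd
  have BA : B * A = -(A * B) := hA ▸ hB ▸ mk f.ba
  have DC : D * C = -(C * D) := hC ▸ hD ▸ mk hdc
  have CA : C * A = A * C := hA ▸ hC ▸ mk hca
  have CB : C * B = B * C := hB ▸ hC ▸ mk hcb
  have DA : D * A = A * D := hA ▸ hD ▸ mk hda
  have DB : D * B = B * D := hB ▸ hD ▸ mk hdb
  have gA : ∀ v w, h (A *ᵥ v) (A *ᵥ w) = h v w := fun v w => by rw [hA]; exact hU f.ha v w
  have gB : ∀ v w, h (B *ᵥ v) (B *ᵥ w) = h v w := fun v w => by rw [hB]; exact hU f.hb v w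
  have gC : ∀ v w, h (C *ᵥ v) (C *ᵥ w) = h v w := fun v w => by rw [hC]; exact hU hc'R v w
  have gD : ∀ v w, h (D *ᵥ v) (D *ᵥ w) = h v w := fun v w => by rw [hD]; exact hU hd'R v w
  obtain ⟨P, hP⟩ : ∃ P : M4, P = (1 + A) * (1 + C) := ⟨_, rfl⟩
  have hP0 : P ≠ 0 := fun e0 => by
    have e1 : (1 - A) * (1 + C) = 0 := by
      have e := congrArg (fun X => B * X * B) (hP ▸ e0)
      simp only [Matrix.mul_zero, Matrix.zero_mul] at e
      rw [show B * ((1 + A) * (1 + C)) * B = (B * B + B * A * B) + (B * (C * B) + B * A * (C * B)) by noncomm_ring,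
        BA, CB, BB, Matrix.neg_mul, Matrix.mul_assoc A B B, BB, Matrix.mul_one, Matrix.neg_mul,
        Matrix.mul_assoc A B (B * C), ← Matrix.mul_assoc B B C, BB, Matrix.one_mul] at e
      rw [← e]; noncomm_ring
    have e2 : (2 : F) • (1 + C) = 0 := by
      have e : P + (1 - A) * (1 + C) = 0 := by rw [e0, e1, add_zero]
      rw [two_smul, ← e, hP]; noncomm_ring
    have hC1 : C = -1 := eq_neg_of_add_eq_zero_right ((smul_eq_zero.1 e2).resolve_left h2)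
    rw [hC1, mul_neg, neg_mul, mul_one, one_mul, neg_neg] at DC
    have : (2 : F) • D = 0 := by rw [two_smul]; nth_rewrite 1 [← DC]; exact neg_add_cancel D
    rw [smul_eq_zero, or_iff_right h2] at this
    rw [this, Matrix.zero_mul] at DD
    exact zero_ne_one DD
  have adj : ∀ M : M4, M * M = 1 → (∀ v w, h (M *ᵥ v) (M *ᵥ w) = h v w) →
      ∀ v w, h (M *ᵥ v) w = h v (M *ᵥ w) := fun M hMM hM v w => by
    conv_lhs => rw [← Matrix.one_mulVec w, ← hMM, ← Matrix.mulVec_mulVec, hM]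
  have hAP : A * P = P := by
    rw [hP, ← Matrix.mul_assoc, show A * (1 + A) = 1 + A by rw [mul_add, mul_one, AA, add_comm]]
  have hCP : C * P = P := by
    rw [hP, show (1 + A) * (1 + C) = 1 + C + (A + A * C) by noncomm_ring, ← CA]
    rw [show C * (1 + C + (A + C * A)) = C + C * C + (C * A + C * C * A) by noncomm_ring, CC, Matrix.one_mul]
    abel
  obtain ⟨v, hv⟩ : ∃ v, h (P *ᵥ v) (P *ᵥ v) ≠ 0 := by
    by_contra hall
    push Not at hall
    have hsym : ∀ y z, h (P *ᵥ y) (P *ᵥ z) = 0 := fun y z => by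
      by_contra hne
      obtain ⟨d, hd⟩ := exists_trace_one hF
      set s := σ (d / h (P *ᵥ y) (P *ᵥ z)) with hs
      have := hall (y + s • z)
      rw [Matrix.mulVec_add, Matrix.mulVec_smul, h_add_left, h_add_right hF, h_add_right hF, h_smul_left,
        h_smul_left, h_smul_right hF, h_smul_right hF, hall y, hall z, hs, frob_frob hF,
        ← h_swap hF (P *ᵥ y) (P *ᵥ z), ← map_mul, div_mul_cancel₀ _ hne] at this
      exact one_ne_zero (α := F) (by linear_combination this - hd)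
    refine hP0 (Matrix.ext_of_mulVec_single fun j => ?_)
    rw [Matrix.zero_mulVec]
    set y : V := Pi.single j (1 : F)
    refine h_nondeg hF fun z => ?_
    have e := hsym y z
    rw [show P *ᵥ z = z + A *ᵥ z + (C *ᵥ z + A *ᵥ (C *ᵥ z)) by
        rw [hP, Matrix.mulVec_mulVec, ← Matrix.add_mulVec]
        conv_rhs => rw [show z + A *ᵥ z = (1 + A) *ᵥ z by rw [Matrix.add_mulVec, Matrix.one_mulVec]]
        rw [← Matrix.add_mulVec]; congr 1; noncomm_ring,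
      h_add_right hF, h_add_right hF, h_add_right hF, ← adj A AA gA, ← adj A AA gA, ← adj C CC gC, ← adj C CC gC,
      ] at e
    simp only [Matrix.mulVec_mulVec, hAP, hCP] at e
    have e4 : (2 : F) * (2 * h (P *ᵥ y) z) = 0 := by
      linear_combination e
    exact (mul_eq_zero.1 ((mul_eq_zero.1 e4).resolve_left h2)).resolve_left h2
  obtain ⟨t, ht, -⟩ := exists_scale (hF := hF) hv (map_one σ)
  obtain ⟨e₀, he₀⟩ : ∃ e, e = t • (P *ᵥ v) := ⟨_, rfl⟩
  have n0 : h e₀ e₀ = 1 := he₀ ▸ ht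
  have A0 : A *ᵥ e₀ = e₀ := by rw [he₀, Matrix.mulVec_smul, Matrix.mulVec_mulVec, hAP]
  have C0 : C *ᵥ e₀ = e₀ := by rw [he₀, Matrix.mulVec_smul, Matrix.mulVec_mulVec, hCP]
  obtain ⟨b, hb⟩ : ∃ b : Fin 4 → V, b = ![e₀, B *ᵥ e₀, D *ᵥ e₀, B *ᵥ (D *ᵥ e₀)] := ⟨_, rfl⟩
  have mm : ∀ (M N : M4) (w : V), M *ᵥ (N *ᵥ w) = (M * N) *ᵥ w := fun M N w => Matrix.mulVec_mulVec w M N
  have A1 : A *ᵥ (B *ᵥ e₀) = -(B *ᵥ e₀) := by
    rw [mm, show A * B = -(B * A) by rw [BA, neg_neg], Matrix.neg_mulVec, ← mm, A0]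
  have A2 : A *ᵥ (D *ᵥ e₀) = D *ᵥ e₀ := by rw [mm, ← DA, ← mm, A0]
  have A3 : A *ᵥ (B *ᵥ (D *ᵥ e₀)) = -(B *ᵥ (D *ᵥ e₀)) := by
    rw [mm, show A * B = -(B * A) by rw [BA, neg_neg], Matrix.neg_mulVec, ← mm, A2]
  have C1 : C *ᵥ (B *ᵥ e₀) = B *ᵥ e₀ := by rw [mm, CB, ← mm, C0]
  have C2 : C *ᵥ (D *ᵥ e₀) = -(D *ᵥ e₀) := by
    rw [mm, show C * D = -(D * C) by rw [DC, neg_neg], Matrix.neg_mulVec, ← mm, C0]
  have C3 : C *ᵥ (B *ᵥ (D *ᵥ e₀)) = -(B *ᵥ (D *ᵥ e₀)) := by rw [mm, CB, ← mm, C2, Matrix.mulVec_neg]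
  have B1 : B *ᵥ (B *ᵥ e₀) = e₀ := by rw [mm, BB, Matrix.one_mulVec]
  have B3 : B *ᵥ (B *ᵥ (D *ᵥ e₀)) = D *ᵥ e₀ := by rw [mm, BB, Matrix.one_mulVec]
  have D1 : D *ᵥ (B *ᵥ e₀) = B *ᵥ (D *ᵥ e₀) := by rw [mm, DB, mm]
  have D2 : D *ᵥ (D *ᵥ e₀) = e₀ := by rw [mm, DD, Matrix.one_mulVec]
  have D3 : D *ᵥ (B *ᵥ (D *ᵥ e₀)) = B *ᵥ e₀ := by rw [mm, DB, ← mm, D2]
  have anti : ∀ (M : M4), (∀ v w, h (M *ᵥ v) (M *ᵥ w) = h v w) → ∀ v w,
      (M *ᵥ v = v ∧ M *ᵥ w = -w) ∨ (M *ᵥ v = -v ∧ M *ᵥ w = w) → h v w = 0 := fun M hM v w hh => by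
    have e := hM v w
    rcases hh with ⟨e1, e2⟩ | ⟨e1, e2⟩ <;> rw [e1, e2] at e
    · rw [← neg_one_smul F w, h_smul_right hF, map_neg, map_one] at e
      exact (mul_eq_zero.1 (show (2 : F) * h v w = 0 by linear_combination -e)).resolve_left h2
    · rw [← neg_one_smul F v, h_smul_left] at e
      exact (mul_eq_zero.1 (show (2 : F) * h v w = 0 by linear_combination -e)).resolve_left h2
  have hgram : ∀ j l, h (b j) (b l) = if j = l then 1 else 0 := fun j l => by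
    have z01 := anti A gA e₀ (B *ᵥ e₀) (Or.inl ⟨A0, A1⟩)
    have z02 := anti C gC e₀ (D *ᵥ e₀) (Or.inl ⟨C0, C2⟩)
    have z03 := anti A gA e₀ (B *ᵥ (D *ᵥ e₀)) (Or.inl ⟨A0, A3⟩)
    have z12 := anti A gA (B *ᵥ e₀) (D *ᵥ e₀) (Or.inr ⟨A1, A2⟩)
    have z13 := anti C gC (B *ᵥ e₀) (B *ᵥ (D *ᵥ e₀)) (Or.inl ⟨C1, C3⟩)
    have z23 := anti A gA (D *ᵥ e₀) (B *ᵥ (D *ᵥ e₀)) (Or.inl ⟨A2, A3⟩)
    subst hb
    fin_cases j <;> fin_cases l <;>
      simp [-Matrix.mulVec_mulVec, z01, z02, z03, z12, z13, z23, h_zero (hF := hF) z01, h_zero (hF := hF) z02, h_zero (hF := hF) z03,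
        h_zero (hF := hF) z12, h_zero (hF := hF) z13, h_zero (hF := hF) z23, gB, gD, n0]
  have hiso : ∀ y z, h (colM b *ᵥ y) (colM b *ᵥ z) = h y z := fun y z => by
    rw [colM_mulVec, colM_mulVec, h_sum_left (hF := hF)]
    simp only [h_sum_right (hF := hF), h_smul_left, h_smul_right hF, hgram, mul_ite, mul_one, mul_zero,
      Finset.sum_ite_eq, Finset.mem_univ, if_true]
    simp [Cfsg.hermForm, frob_apply, mul_comm]
  have hdet : (colM b).det ≠ 0 := fun e => by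
    obtain ⟨w, hw0, hw⟩ := Matrix.exists_mulVec_eq_zero_iff.2 e
    exact hw0 (h_nondeg hF fun z => by rw [← hiso, hw, h_zero_left (hF := hF)])
  refine ⟨Matrix.GeneralLinearGroup.mkOfDetNeZero _ hdet, ![sc u, f.a, f.b, c', d'], fun y z => hiso y z,
    fun r => ⟨?_, ?_⟩, fun r hr => ?_⟩
  · fin_cases r
    exacts [hiR, f.ha, f.hb, hc'R, hd'R]
  · show (((![sc u, f.a, f.b, c', d'] r) : GL (Fin 4) F) : M4) * colM b = colM b * std i r
    refine Matrix.ext_of_mulVec_single fun j => ?_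
    rw [← Matrix.mulVec_mulVec, colM_single, ← Matrix.mulVec_mulVec, colM_mulVec, Fin.sum_univ_four]
    simp only [Matrix.mulVec_single_one, Matrix.col_apply]
    subst hb
    fin_cases r <;> fin_cases j <;>
      simp [-Matrix.mulVec_mulVec, std, ← hA, ← hB, ← hC, ← hD, hu, coe_sc, Matrix.smul_mulVec, A0, A1, A2, A3, B1, B3, C0, C1, C2, C3,
        D1, D2, D3]
  · obtain ⟨w, hw, e⟩ := eq_rep f hR hr
    have hm : ∀ r : Fin 5, (![sc u, f.a, f.b, c', d'] r : GL (Fin 4) F) ∈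
        Subgroup.closure (Set.range ![sc u, f.a, f.b, c', d']) := fun r => Subgroup.subset_closure ⟨r, rfl⟩
    have hcl : f.c = (sc u)⁻¹ * c' := by rw [hc']; group
    have hdl : f.d = (sc u)⁻¹ * d' := by rw [hd']; group
    have hw4 : (w : F) ^ 4 = 1 := by
      have e4 := hR.pow_four _ hw
      rw [← map_pow, ← map_one (sc (F := F) (ι := Fin 4))] at e4
      rw [← Units.val_pow_eq_pow_val, sc_injective e4, Units.val_one]
    obtain ⟨k, hk⟩ : ∃ k : ℕ, w = u ^ k := by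
      have h0 : ((w : F) * w - 1) * (w * w + 1) = 0 := by linear_combination hw4
      rcases mul_eq_zero.1 h0 with e0 | e0
      · rcases mul_self_eq_one_iff.1 (sub_eq_zero.1 e0) with e1 | e1
        · exact ⟨0, Units.ext (by rw [e1, pow_zero, Units.val_one])⟩
        · exact ⟨2, Units.ext (by rw [e1, Units.val_pow_eq_pow_val, hu, pow_two, hi])⟩
      · have e1 : ((w : F) - i) * (w + i) = 0 := by linear_combination e0 - hi
        rcases mul_eq_zero.1 e1 with e2 | e2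
        · exact ⟨1, Units.ext (by rw [pow_one, hu, sub_eq_zero.1 e2])⟩
        · exact ⟨3, Units.ext (by
            rw [eq_neg_of_add_eq_zero_left e2, Units.val_pow_eq_pow_val, hu]; linear_combination -i * hi)⟩
    rw [e, hk, map_pow, rep, hcl, hdl]
    exact mul_mem (pow_mem (hm 0) _) (mul_mem (mul_mem (mul_mem (pow_mem (hm 1) _) (pow_mem (hm 2) _))
      (pow_mem (mul_mem (inv_mem (hm 0)) (hm 3)) _)) (pow_mem (mul_mem (inv_mem (hm 0)) (hm 4)) _))

end CfsgLib.MaxSub.SUFour.Klein
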