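/-
`SU_4` acting on the six-dimensional real space of alternating matrices fixed by the twisted duality.
-/
import Cfsg.Agent.S0303
import Cfsg.Agent.Lib.MaxSub.Frame.Basic
import Cfsg.Agent.Lib.MaxSub.SUFour.Basic
import Cfsg.Agent.Lib.UnitarySimple
import Cfsg.Agent.Lib.ExceptionalIso

set_option autoImplicit false
set_option maxHeartbeats 800000
set_option linter.unusedSectionVars false

namespace CfsgLib.MaxSub.SUFour.Klein

open Matrix QuadraticMap Module Cfsg Cfsg.Geo CfsgLib.UnitaryTransvection CfsgLib.WittExtension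
open CfsgLib.MaxSub.Frame (Q1 Q1_apply)

/-- The field with a square root of `-1` outside the fixed field. -/
structure Cx {F : Type*} [Field F] [Fintype F] {q : ℕ} (hF : Fintype.card F = q ^ 2) (k : Type*) [Field k] where
  e : k →+* F
  i : F
  ii : i * i = -1
  σi : frob hF i = -i
  σe : ∀ a, frob hF (e a) = e a
  fix : ∀ x, frob hF x = x → ∃ a, e a = x
  two : (2 : F) ≠ 0

variable {F : Type*} [Field F] [Fintype F] {q : ℕ} {hF : Fintype.card F = q ^ 2}
  {k : Type*} [Field k] (S : Cx hF k)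

local notation "V6" => Fin 6 → k
local notation "σ" => frob hF
local notation "M4" => Matrix (Fin 4) (Fin 4) F
local notation "G" => Cfsg.GU 4 F q ⊓ specialLinear (Fin 4) F

/-- The element with given real and imaginary part. -/
def Cx.cx (a b : k) : F := S.e a + S.i * S.e b

theorem Cx.σcx (a b : k) : σ (S.cx a b) = S.e a - S.i * S.e b := by
  rw [Cx.cx, map_add, map_mul, S.σe, S.σe, S.σi]; ring

theorem Cx.cx_inj {a b a' b' : k} (h : S.cx a b = S.cx a' b') : a = a' ∧ b = b' := by
  have hs := congrArg σ h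
  rw [S.σcx, S.σcx] at hs
  unfold Cx.cx at h
  have hi : S.i ≠ 0 := fun e0 => by
    have := S.ii
    rw [e0, zero_mul, eq_comm, neg_eq_zero] at this
    exact one_ne_zero this
  exact ⟨S.e.injective (mul_left_cancel₀ S.two (by linear_combination h + hs)),
    S.e.injective (mul_left_cancel₀ (mul_ne_zero S.two hi) (by linear_combination h - hs))⟩

theorem Cx.cx_surj (x : F) : ∃ a b : k, x = S.cx a b := by
  have hi : S.i ≠ 0 := fun e0 => by
    have := S.ii
    rw [e0, zero_mul, eq_comm, neg_eq_zero] at this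
    exact one_ne_zero this
  obtain ⟨a, ha⟩ := S.fix ((x + σ x) / 2) (by rw [map_div₀, map_add, frob_frob hF, map_ofNat, add_comm])
  obtain ⟨b, hb⟩ := S.fix ((x - σ x) / (2 * S.i)) (by
    rw [map_div₀, map_sub, frob_frob hF, map_mul, map_ofNat, S.σi, mul_neg, div_neg, ← neg_div, neg_sub])
  refine ⟨a, b, ?_⟩
  rw [Cx.cx, ha, hb]
  have h2 := S.two
  field_simp
  ring

include S in
theorem Cx.two_k : (2 : k) ≠ 0 := fun h => S.two (by rw [← map_ofNat S.e 2, h, map_zero])

/-- The three complex coordinates. -/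
def Cx.xs (v : Fin 6 → k) : Fin 3 → F := ![S.cx (v 0) (v 1), S.cx (v 2) (v 3), S.cx (v 4) (v 5)]

/-- The Plücker coordinates of a real vector. -/
noncomputable def Cx.emb (v : Fin 6 → k) : Fin 3 ⊕ Fin 3 → F := Sum.elim (S.xs v) fun j => σ (S.xs v j)

theorem Cx.emb_add (u v : V6) : S.emb (u + v) = S.emb u + S.emb v := by
  funext s
  rcases s with j | j <;> fin_cases j <;> simp [Cx.emb, Cx.xs, Cx.cx] <;> ring

theorem Cx.emb_smul (c : k) (v : V6) : S.emb (c • v) = S.e c • S.emb v := by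
  funext s
  rcases s with j | j <;> fin_cases j <;> simp [Cx.emb, Cx.xs, Cx.cx, S.σe] <;> ring

theorem Cx.emb_inj {u v : V6} (h : S.emb u = S.emb v) : u = v := by
  have h0 := S.cx_inj (congrFun h (Sum.inl 0))
  have h1 := S.cx_inj (congrFun h (Sum.inl 1))
  have h2 := S.cx_inj (congrFun h (Sum.inl 2))
  funext j
  fin_cases j
  exacts [h0.1, h0.2, h1.1, h1.2, h2.1, h2.2]

theorem Cx.emb_surj (u : Fin 3 ⊕ Fin 3 → F) (h : ∀ j, u (Sum.inr j) = σ (u (Sum.inl j))) :
    ∃ v, S.emb v = u := by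
  choose a b hab using fun j => S.cx_surj (u (Sum.inl j))
  refine ⟨![a 0, b 0, a 1, b 1, a 2, b 2], funext fun s => ?_⟩
  rcases s with j | j
  · fin_cases j <;> simp [Cx.emb, Cx.xs, ← hab]
  · rw [h]; fin_cases j <;> simp [Cx.emb, Cx.xs, ← hab]

theorem Cx.form_emb (v : V6) : Cfsg.quadFormPlus 3 F (S.emb v) = S.e (v ⬝ᵥ v) := by
  simp [Cfsg.quadFormPlus, Cx.emb, Cx.xs, dotProduct, Fin.sum_univ_three, Fin.sum_univ_six, S.σcx]
  simp only [Cx.cx]
  linear_combination (-(S.e (v 1) * S.e (v 1) + S.e (v 3) * S.e (v 3) + S.e (v 5) * S.e (v 5))) * S.ii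

include hF in
theorem unit_rel {g : GL (Fin 4) F} (hg : g ∈ Cfsg.GU 4 F q) : (g : M4)ᵀ * (g : M4).map σ = 1 := by
  have hq : q ≠ 0 := fun h0 => by
    rw [h0] at hF
    exact (Fintype.card_pos (α := F)).ne' (by simpa using hF)
  ext a b
  have h := hg (Pi.single a 1) (Pi.single b 1)
  simp only [Units.coeHom_apply, Cfsg.hermForm, Matrix.mulVec_single_one, Matrix.col_apply,
    Pi.single_apply] at h
  rw [Matrix.mul_apply]
  simp only [Matrix.transpose_apply, Matrix.map_apply, frob_apply]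
  rw [show (∑ j, (g : M4) j a * (g : M4) j b ^ q) = _ from h]
  by_cases hab : a = b
  · subst hab
    simp [Matrix.one_apply_eq, zero_pow hq]
  · simp [Matrix.one_apply_ne hab, zero_pow hq, hab, Ne.symm hab]

theorem Cx.invariant {g : GL (Fin 4) F} (hg : g ∈ G) (v : V6) :
    ∃ w, S.emb w = Plucker.T (g : M4) (S.emb v) := by
  have hd : (g : M4).det = 1 := congrArg Units.val (MonoidHom.mem_ker.1 hg.2)
  refine Exists.imp (fun _ e => e) (S.emb_surj _ fun j => ?_)
  set u := Plucker.T (g : M4) (S.emb v)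
  have hu : ∀ w, polar (Lagrangian.Qp 3 F) u w = Cfsg.Agent.S0303.hform σ w u := fun w => by
    obtain ⟨z, rfl⟩ : ∃ z, Plucker.T (g : M4) z = w := ⟨Plucker.T ((g⁻¹ : GL (Fin 4) F) : M4) w, by
      rw [← LinearMap.comp_apply, ← Plucker.T_mul, Units.mul_inv, Plucker.T_one]; rfl⟩
    rw [Cfsg.Agent.S0303.hform_T σ (unit_rel (hF := hF) hg.1)]
    have hp : ∀ y, Lagrangian.Qp 3 F (Plucker.T (g : M4) y) = Lagrangian.Qp 3 F y := fun y => by
      rw [Lagrangian.Qp_apply, Lagrangian.Qp_apply, Plucker.form_T, hd, one_mul]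
    rw [QuadraticMap.polar, ← map_add, hp, hp, hp, ← QuadraticMap.polar, Cfsg.Agent.S0303.hform_eq]
    simp only [QuadraticMap.polar, Lagrangian.Qp_apply, Cfsg.quadFormPlus, Cx.emb, Pi.add_apply, Sum.elim_inl,
      Sum.elim_inr, frob_frob hF, Fin.sum_univ_three]
    ring
  have := hu (Pi.single (Sum.inl j) 1)
  rw [Cfsg.Agent.S0303.hform_eq] at this
  fin_cases j <;>
    simpa [QuadraticMap.polar, Lagrangian.Qp_apply, Cfsg.quadFormPlus, Fin.sum_univ_three, Pi.single_apply,
      mul_add, add_mul] using this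

/-- The action on a real vector. -/
noncomputable def Cx.actFun (g : ↥G) (v : Fin 6 → k) : Fin 6 → k := (S.invariant g.2 v).choose

theorem Cx.emb_actFun (g : ↥G) (v : V6) :
    S.emb (S.actFun g v) = Plucker.T ((g : GL (Fin 4) F) : M4) (S.emb v) :=
  (S.invariant g.2 v).choose_spec

/-- The action on real vectors. -/
noncomputable def Cx.act (g : ↥G) : (Fin 6 → k) →ₗ[k] (Fin 6 → k) where
  toFun := S.actFun g
  map_add' u v := S.emb_inj (by
    rw [S.emb_add, S.emb_actFun, S.emb_actFun, S.emb_actFun, S.emb_add, map_add])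
  map_smul' c v := S.emb_inj (by
    rw [RingHom.id_apply, S.emb_smul, S.emb_actFun, S.emb_actFun, S.emb_smul, map_smul])

theorem Cx.emb_act (g : ↥G) (v : V6) : S.emb (S.act g v) = Plucker.T ((g : GL (Fin 4) F) : M4) (S.emb v) :=
  S.emb_actFun g v

theorem Cx.act_one (v : V6) : S.act 1 v = v :=
  S.emb_inj (by rw [S.emb_act, OneMemClass.coe_one, Units.val_one, Plucker.T_one]; rfl)

theorem Cx.act_mul (g g' : ↥G) (v : V6) : S.act (g * g') v = S.act g (S.act g' v) :=
  S.emb_inj (by rw [S.emb_act, Subgroup.coe_mul, Units.val_mul, Plucker.T_mul, S.emb_act, S.emb_act]; rfl)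

theorem Cx.act_form (g : ↥G) (v : V6) : Q1 k 6 (S.act g v) = Q1 k 6 v := by
  rw [Q1_apply, Q1_apply]
  refine S.e.injective ?_
  rw [← S.form_emb, ← S.form_emb, S.emb_act, Plucker.form_T,
    show ((g : GL (Fin 4) F) : M4).det = 1 from congrArg Units.val (MonoidHom.mem_ker.1 g.2.2), one_mul]

/-- The action of one element. -/
noncomputable def Cx.actEquiv (g : ↥G) : (Fin 6 → k) ≃ₗ[k] (Fin 6 → k) :=
  LinearEquiv.ofLinear (S.act g) (S.act g⁻¹)
    (LinearMap.ext fun v => (S.act_mul g g⁻¹ v).symm.trans (by rw [mul_inv_cancel, S.act_one]; rfl))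
    (LinearMap.ext fun v => (S.act_mul g⁻¹ g v).symm.trans (by rw [inv_mul_cancel, S.act_one]; rfl))

/-- The map into the isometries of the sum of six squares. -/
noncomputable def Cx.phi : ↥G →* quadIso (Q1 k 6) :=
  MonoidHom.mk' (fun g => ⟨S.actEquiv g, fun v => S.act_form g v⟩)
    fun g g' => Subtype.ext (LinearEquiv.ext fun v => S.act_mul g g' v)

theorem Cx.emb_phi (g : ↥G) (v : V6) :
    S.emb ((S.phi g).1 v) = Plucker.T ((g : GL (Fin 4) F) : M4) (S.emb v) := S.emb_act g v

/-- Only `±1` act trivially. -/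
theorem Cx.scalar_of_phi {g : ↥G} (h : S.phi g = 1) :
    ∃ r : F, r * r = 1 ∧ ((g : GL (Fin 4) F) : M4) = Matrix.scalar (Fin 4) r := by
  have hd : ((g : GL (Fin 4) F) : M4).det = 1 := congrArg Units.val (MonoidHom.mem_ker.1 g.2.2)
  refine (Plucker.T_eq_id_iff (by rw [hd]; exact one_ne_zero)).1 ?_
  have hfix : ∀ v, Plucker.T ((g : GL (Fin 4) F) : M4) (S.emb v) = S.emb v := fun v => by
    rw [← S.emb_phi, h]; rfl
  have h2 := S.two
  have hi : S.i ≠ 0 := fun e0 => by
    have := S.ii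
    rw [e0, zero_mul, eq_comm, neg_eq_zero] at this
    exact one_ne_zero this
  refine LinearMap.ext fun u => ?_
  obtain ⟨v, hv⟩ : ∃ v, S.emb v = Sum.elim (fun j => (u (Sum.inl j) + σ (u (Sum.inr j))) / 2)
      fun j => (σ (u (Sum.inl j)) + u (Sum.inr j)) / 2 := S.emb_surj _ fun j => by
    simp [map_div₀, frob_frob hF, map_ofNat]
  obtain ⟨v', hv'⟩ : ∃ v', S.emb v' = Sum.elim (fun j => (u (Sum.inl j) - σ (u (Sum.inr j))) / (2 * S.i))
      fun j => (σ (u (Sum.inl j)) - u (Sum.inr j)) / (-(2 * S.i)) := S.emb_surj _ fun j => by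
    simp [map_div₀, frob_frob hF, map_ofNat, S.σi]
  have hu : u = S.emb v + S.i • S.emb v' := by
    rw [hv, hv']
    funext s
    rcases s with j | j <;> simp <;> field_simp <;> ring
  rw [LinearMap.id_apply, hu, map_add, map_smul, hfix, hfix]

/-- The map from the special unitary group of the statement to the one of the library. -/
noncomputable def suHom (F : Type*) [Field F] [Fintype F] (q : ℕ) :
    Cfsg.SU 4 F q →* ↥(Cfsg.GU 4 F q ⊓ specialLinear (Fin 4) F) where
  toFun g := ⟨Matrix.SpecialLinearGroup.toGL g.1, ⟨fun u v => g.2 u v, MonoidHom.mem_ker.2 (Units.ext g.1.2)⟩⟩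
  map_one' := Subtype.ext (map_one Matrix.SpecialLinearGroup.toGL)
  map_mul' a b := Subtype.ext (map_mul Matrix.SpecialLinearGroup.toGL a.1 b.1)

theorem suHom_bijective : Function.Bijective (suHom F q) := by
  refine ⟨fun a b e => Subtype.ext (Subtype.ext (congrArg Units.val (congrArg Subtype.val e))), fun g => ?_⟩
  exact ⟨⟨⟨(g.1 : M4), congrArg Units.val (MonoidHom.mem_ker.1 g.2.2)⟩, fun u v => g.2.1 u v⟩,
    Subtype.ext (Units.ext rfl)⟩

include hF in
theorem perfect_G (hq : 3 ≤ q) : commutator ↥G = ⊤ := by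
  have h := congrArg (Subgroup.map (suHom F q))
    (UnitarySimple.perfect (n := 4) hF (by norm_num) (by omega))
  rwa [_root_.commutator_def, Subgroup.map_commutator, Subgroup.map_top_of_surjective _ suHom_bijective.2,
    ← _root_.commutator_def] at h

include hF in
theorem Cx.range_le (hq : 3 ≤ q) : S.phi.range ≤ commutator (quadIso (Q1 k 6)) :=
  ExceptionalIso.range_le_of_perfect _ (perfect_G (hF := hF) hq)

end CfsgLib.MaxSub.SUFour.Klein
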