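/-
The image of `SU_4` is the derived group of the orthogonal group of six squares.
-/
import Cfsg.Agent.Lib.MaxSub.SUFour.Klein.Model
import Cfsg.Agent.Lib.OrthOrderBase
import Cfsg.Agent.Lib.StdQuadForms
import Cfsg.Agent.Lib.UnitaryOrder

set_option autoImplicit false
set_option maxHeartbeats 800000
set_option linter.unusedSectionVars false

namespace CfsgLib.MaxSub.SUFour.Klein

open Matrix QuadraticMap Module Cfsg Cfsg.Geo CfsgLib.UnitaryTransvection CfsgLib.WittExtension CfsgLib.StdQuadForms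
open CfsgLib.MaxSub.Frame (Q1 Q1_apply)

variable {F : Type*} [Field F] [Fintype F] {q : ℕ} {hF : Fintype.card F = q ^ 2}
  {k : Type*} [Field k] [Fintype k] (S : Cx hF k)

local notation "V6" => Fin 6 → k
local notation "σ" => frob hF
local notation "M4" => Matrix (Fin 4) (Fin 4) F
local notation "G" => Cfsg.GU 4 F q ⊓ specialLinear (Fin 4) F

include S in
theorem Cx.no_sqrt (a : k) : a * a ≠ -1 := fun h => by
  have e : (S.e a - S.i) * (S.e a + S.i) = 0 := by
    have := congrArg S.e h
    rw [map_mul, map_neg, map_one] at this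
    linear_combination this - S.ii
  have hi : S.i ≠ 0 := fun e0 => by
    have := S.ii
    rw [e0, zero_mul, eq_comm, neg_eq_zero] at this
    exact one_ne_zero this
  have h2 : S.i = σ S.i := by
    rcases mul_eq_zero.1 e with e | e
    · rw [← sub_eq_zero.1 e, S.σe]
    · rw [← neg_eq_iff_eq_neg.2 (eq_neg_of_add_eq_zero_left e), map_neg, S.σe]
  rw [S.σi] at h2
  exact mul_ne_zero S.two hi (by linear_combination h2)

include S in
theorem Cx.aniso (z₁ z₂ : k) (h : z₁ ^ 2 + 0 * z₁ * z₂ + 1 * z₂ ^ 2 = 0) : z₁ = 0 ∧ z₂ = 0 := by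
  by_cases hz : z₂ = 0
  · subst hz
    exact ⟨pow_eq_zero_iff two_ne_zero |>.1 (by linear_combination h), rfl⟩
  · refine absurd ?_ (S.no_sqrt (z₁ / z₂))
    field_simp
    linear_combination h

include S in
theorem Cx.exists_sum : ∃ r s : k, r * r + s * s = -1 := by
  obtain ⟨t, ht⟩ := exists_norm_eq hF (c := (-1 : F)) (by rw [map_neg, map_one])
  obtain ⟨r, s, rfl⟩ := S.cx_surj t
  refine ⟨r, s, S.e.injective ?_⟩
  rw [S.σcx, Cx.cx] at ht
  rw [map_neg, map_one, map_add, map_mul, map_mul]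
  linear_combination ht + (S.e s * S.e s) * S.ii

include S in
theorem Cx.card_iso (hk : Fintype.card k = q) :
    Nat.card (quadIso (Q1 k 6)) = 2 * q ^ 6 * (q ^ 3 + 1) * ((q ^ 2 - 1) * (q ^ 4 - 1)) := by
  obtain ⟨r, s, hrs⟩ := S.exists_sum
  have h2 := S.two_k
  let L : (Fin 6 → k) →ₗ[k] ((Fin 2 ⊕ Fin 2) ⊕ Fin 2 → k) :=
    { toFun := fun v => Sum.elim (Sum.elim ![v 0 - r * v 2 - s * v 3, v 1 + s * v 2 - r * v 3]
        ![v 0 + r * v 2 + s * v 3, v 1 - s * v 2 + r * v 3]) ![v 4, v 5]
      map_add' := fun u v => by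
        funext m
        rcases m with (m | m) | m <;> fin_cases m <;> simp <;> ring
      map_smul' := fun c v => by
        funext m
        rcases m with (m | m) | m <;> fin_cases m <;> simp <;> ring }
  have hL : ∀ v, Qm 2 (0 : k) 1 (L v) = Q1 k 6 v := fun v => by
    rw [Qm_apply, Q1_apply]
    simp [Cfsg.quadFormMinus, L, dotProduct, Fin.sum_univ_two, Fin.sum_univ_six]
    linear_combination (-(v 2 * v 2 + v 3 * v 3)) * hrs
  have hinj : Function.Injective L := fun u v e => by
    have hQ := Frame.nondeg (F := k) (n := 6) h2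
    refine sub_eq_zero.1 (hQ.1 _ fun w => ?_)
    rw [polarBilin_apply_apply, polar, ← hL, ← hL, ← hL, map_add, map_sub, e, sub_self, zero_add,
      QuadraticMap.map_zero, sub_zero, sub_self]
  let E := LinearEquiv.ofInjectiveOfFinrankEq L hinj (by simp [Module.finrank_fintype_fun_eq_card])
  have hE : ∀ v, Qm 2 (0 : k) 1 (E v) = Q1 k 6 v := hL
  let Ψ : quadIso (Q1 k 6) ≃ quadIso (Qm 2 (0 : k) 1) :=
    { toFun := fun g => ⟨E.symm.trans (g.1.trans E), fun v => by
        show Qm 2 (0 : k) 1 (E (g.1 (E.symm v))) = _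
        rw [hE, g.2, ← hE, E.apply_symm_apply]⟩
      invFun := fun g => ⟨E.trans (g.1.trans E.symm), fun v => by
        show Q1 k 6 (E.symm (g.1 (E v))) = _
        rw [← hE, E.apply_symm_apply, g.2, hE]⟩
      left_inv := fun g => Subtype.ext (LinearEquiv.ext fun v => by
        show E.symm (E (g.1 (E.symm (E v)))) = _
        rw [E.symm_apply_apply, E.symm_apply_apply])
      right_inv := fun g => Subtype.ext (LinearEquiv.ext fun v => by
        show E (E.symm (g.1 (E (E.symm v)))) = _
        rw [E.apply_symm_apply, E.apply_symm_apply]) }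
  rw [Nat.card_congr Ψ, ← Nat.card_congr (SpinorMatrix.isoEquiv (Qm 2 (0 : k) 1)).toEquiv,
    show ⇑(Qm 2 (0 : k) 1) = Cfsg.quadFormMinus (3 - 1) k 0 1 from funext (Qm_apply 2 0 1),
    OrthOrder.card_O_minus 3 (by norm_num) 0 1 S.aniso, hk]
  simp [Finset.prod_range_succ]

include hF in
theorem Cx.neg_mem : (-1 : GL (Fin 4) F) ∈ G := by
  refine ⟨fun u v => ?_, MonoidHom.mem_ker.2 (Units.ext ?_)⟩
  · show Cfsg.hermForm 4 F q (((-1 : GL (Fin 4) F) : M4) *ᵥ u) (((-1 : GL (Fin 4) F) : M4) *ᵥ v) = _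
    rw [Units.val_neg, Units.val_one, Matrix.neg_mulVec, Matrix.neg_mulVec, Matrix.one_mulVec, Matrix.one_mulVec,
      ← neg_one_smul F u, ← neg_one_smul F v, h_smul_left, h_smul_right hF, map_neg, map_one]
    ring
  · simp [Matrix.det_neg]
    norm_num

include S in
theorem Cx.card_ker : Nat.card S.phi.ker ≤ 2 := by
  classical
  let m : ↥G := ⟨-1, Cx.neg_mem (hF := hF)⟩
  have hsub : ∀ x : S.phi.ker, (x : ↥G) = 1 ∨ (x : ↥G) = m := fun x => by
    obtain ⟨r, hr, e⟩ := S.scalar_of_phi (MonoidHom.mem_ker.1 x.2)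
    rcases mul_self_eq_one_iff.1 hr with h | h
    · exact Or.inl (Subtype.ext (Units.ext (by rw [e, h, map_one]; rfl)))
    · exact Or.inr (Subtype.ext (Units.ext (by rw [e, h, map_neg, map_one]; rfl)))
  have : Fintype S.phi.ker := Fintype.ofFinite _
  rw [Nat.card_eq_fintype_card]
  let f : S.phi.ker → Bool := fun x => decide ((x : ↥G) = 1)
  refine (Fintype.card_le_of_injective f fun x y e => Subtype.ext ?_).trans_eq Fintype.card_bool
  simp only [f, decide_eq_decide] at e
  rcases hsub x with hx | hx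
  · rw [hx, e.1 hx]
  · rcases hsub y with hy | hy
    · rw [hy, e.2 hy]
    · rw [hx, hy]

include hF in
theorem card_G :
    (q + 1) * Nat.card ↥G = q ^ 6 * ((q + 1) * (q ^ 2 - 1) * (q ^ 3 + 1) * (q ^ 4 - 1)) := by
  rw [← Nat.card_congr (Equiv.ofBijective _ (suHom_bijective (F := F) (q := q)))]
  rw [← UnitaryOrder.card_GU_eq hF (by norm_num), UnitaryOrder.card_GU hF 4]
  simp [Finset.prod_range_succ, Nat.even_iff]

include S in
/-- The image is the derived group. -/
theorem Cx.range_phi (hq : 3 ≤ q) (hk : Fintype.card k = q) :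
    S.phi.range = commutator (quadIso (Q1 k 6)) := by
  classical
  refine Subgroup.eq_of_le_of_card_ge (S.range_le hq) ?_
  have hnd := Frame.nondeg (F := k) (n := 6) S.two_k
  have hidx : (commutator (quadIso (Q1 k 6))).index = 4 :=
    SpinorMatrix.index_commutator _ S.two_k hnd (by simp) (SpinorMatrix.hc_odd _ S.two_k hnd)
  have hO := Subgroup.card_mul_index (commutator (quadIso (Q1 k 6)))
  rw [hidx, S.card_iso hk] at hO
  have h1 := Subgroup.card_mul_index S.phi.ker
  rw [Subgroup.index_ker] at h1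
  have hG := card_G (hF := hF)
  have hker := S.card_ker
  generalize Nat.card (commutator (quadIso (Q1 k 6))) = w at hO ⊢
  generalize Nat.card S.phi.range = r at h1 ⊢
  generalize Nat.card S.phi.ker = j at h1 hker
  generalize Nat.card ↥G = c at h1 hG
  generalize q ^ 3 + 1 = A at hO hG
  generalize q ^ 2 - 1 = B at hO hG
  generalize q ^ 4 - 1 = C at hO hG
  have hc : c = q ^ 6 * (B * A * C) := by
    refine Nat.eq_of_mul_eq_mul_left (show 0 < q + 1 by omega) ?_
    rw [hG]; ring
  have h4 : w * 4 = 2 * c := by rw [hO, hc]; ring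
  have : j * r ≤ 2 * r := Nat.mul_le_mul_right r hker
  omega

end CfsgLib.MaxSub.SUFour.Klein
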