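/-
The normalisers of the groups `4 ∘ 2^(1+4)` are maximal in `SU_4(p)`, `p ≡ 3` modulo 4.
-/
import Cfsg.Agent.Lib.MaxSub.SUFour.Klein.Range
import Cfsg.Agent.Lib.MaxSub.SUFour.Klein.Basis
import Cfsg.Agent.Lib.MaxSub.Frame.Six
import Cfsg.Agent.Lib.MaxSub.Frame.Main

set_option autoImplicit false
set_option maxHeartbeats 800000
set_option linter.unusedSectionVars false

namespace CfsgLib.MaxSub.SUFour.Klein

open Matrix QuadraticMap Module Cfsg Cfsg.Geo CfsgLib.UnitaryTransvection CfsgLib.WittExtension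
open CfsgLib.MaxSub.Frame (Q1 Q1_apply ee ee_apply IsE Mono rf Ov)

variable {F : Type*} [Field F] [Fintype F] {q : ℕ} {hF : Fintype.card F = q ^ 2}
  {k : Type*} [Field k] [Fintype k] (S : Cx hF k)

local notation "σ" => frob hF
local notation "M4" => Matrix (Fin 4) (Fin 4) F
local notation "G" => Cfsg.GU 4 F q ⊓ specialLinear (Fin 4) F

/-- The signs of the standard generators. -/
def sgn : Fin 5 → Fin 6 → Bool :=
  ![![false, false, false, false, false, false],
    ![false, false, true, true, false, false],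
    ![false, false, false, true, true, false],
    ![true, true, false, false, false, false],
    ![true, false, false, false, false, true]]

theorem sgn_sep : ∀ a b : Fin 6, a ≠ b → ∃ t, sgn t a ≠ sgn t b := by decide

include S in
/-- The standard generators change signs. -/
theorem Cx.std_emb (t : Fin 5) (v : Fin 6 → k) :
    Plucker.T (std S.i t) (S.emb v) = S.emb fun j => if sgn t j then v j else -v j := by
  have h := S.ii
  funext s
  rcases s with j | j <;> fin_cases t <;> fin_cases j <;>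
    simp [std, sgn, Plucker.T, Plucker.vec, Plucker.toA, Plucker.U, Matrix.mul_apply, Fin.sum_univ_four,
      Matrix.vecMul, dotProduct, Cx.emb, Cx.xs, Cx.σcx] <;>
    (try simp [Cx.cx]) <;> (try ring1) <;>
    first
      | linear_combination (0 : F) * h
      | linear_combination (S.e (v 0) + S.i * S.e (v 1)) * h
      | linear_combination (-(S.e (v 0) + S.i * S.e (v 1))) * h
      | linear_combination (S.e (v 0) - S.i * S.e (v 1)) * h
      | linear_combination (-(S.e (v 0) - S.i * S.e (v 1))) * h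
      | linear_combination (S.e (v 2) + S.i * S.e (v 3)) * h
      | linear_combination (-(S.e (v 2) + S.i * S.e (v 3))) * h
      | linear_combination (S.e (v 2) - S.i * S.e (v 3)) * h
      | linear_combination (-(S.e (v 2) - S.i * S.e (v 3))) * h
      | linear_combination (S.e (v 4) + S.i * S.e (v 5)) * h
      | linear_combination (-(S.e (v 4) + S.i * S.e (v 5))) * h
      | linear_combination (S.e (v 4) - S.i * S.e (v 5)) * h
      | linear_combination (-(S.e (v 4) - S.i * S.e (v 5))) * h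

/-- Diagonal isometries. -/
def diag (k : Type*) [Field k] : Subgroup (quadIso (Q1 k 6)) where
  carrier := {g | ∀ j, g.1 (ee j) = ee j ∨ g.1 (ee j) = -ee j}
  one_mem' j := Or.inl rfl
  mul_mem' {a b} ha hb j := by
    show a.1 (b.1 (ee j)) = _ ∨ a.1 (b.1 (ee j)) = _
    rcases hb j with e | e <;> rw [e]
    · exact ha j
    · rw [map_neg]
      rcases ha j with e' | e' <;> rw [e']
      · exact Or.inr rfl
      · exact Or.inl (neg_neg _)
  inv_mem' {a} ha j := by
    have key : ∀ w, a.1 (ee j) = w → a⁻¹.1 w = ee j := fun w e => by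
      rw [← e]; exact a.1.symm_apply_apply _
    rcases ha j with e | e
    · exact Or.inl (key _ e)
    · refine Or.inr (neg_eq_iff_eq_neg.1 ?_)
      rw [← map_neg]; exact key _ e

theorem card_diag_comm (h2 : (2 : k) ≠ 0) :
    Nat.card ↥(diag k ⊓ commutator (quadIso (Q1 k 6))) ≤ 32 := by
  classical
  let f : diag k → (Fin 6 → Bool) := fun g j => decide (g.1.1 (ee j) = ee j)
  have hf : Function.Injective f := fun g g' e => Subtype.ext (Frame.ext_std fun j => by
    have ej := congrFun e j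
    simp only [f, decide_eq_decide] at ej
    show g.1.1 (ee j) = g'.1.1 (ee j)
    rcases g.2 j with h | h <;> rcases g'.2 j with h' | h'
    · rw [h, h']
    · rw [h, ej.1 h]
    · rw [h', ej.2 h']
    · rw [h, h'])
  have : Finite (diag k) := Finite.of_injective f hf
  have h64 : Nat.card (diag k) ≤ 64 := by
    refine (Nat.card_le_card_of_injective f hf).trans_eq ?_
    simp
  have hlt : diag k ⊓ commutator (quadIso (Q1 k 6)) < diag k := by
    refine lt_of_le_of_ne inf_le_left fun e => ?_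
    have hn : (ee 0 : Fin 6 → k) ⬝ᵥ ee 0 ≠ 0 := by rw [Frame.ee_norm]; exact one_ne_zero
    have hm : rf (ee 0 : Fin 6 → k) ∈ diag k := fun j => by
      by_cases hj : j = 0
      · subst hj; exact Or.inr (Frame.rf_self hn)
      · refine Or.inl (Frame.rf_perp hn ?_)
        rw [Frame.ee_dot, Frame.ee_ne (Ne.symm hj)]
    rw [← e] at hm
    exact Frame.rf_notMem h2 hn hm.2
  obtain ⟨m, hm⟩ := Subgroup.card_dvd_of_le hlt.le
  have hpos : 0 < Nat.card (diag k) := Nat.card_pos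
  rcases Nat.lt_or_ge m 2 with hm2 | hm2
  · exact absurd (Subgroup.eq_of_le_of_card_ge hlt.le (by rw [hm]; nlinarith)) hlt.ne
  · nlinarith

include hF in
theorem conj_mem_G {T g : GL (Fin 4) F} (hT : T ∈ Cfsg.GU 4 F q) (hg : g ∈ G) : T⁻¹ * g * T ∈ G := by
  refine Subgroup.mem_inf.2 ⟨mul_mem (mul_mem (inv_mem hT) (Subgroup.mem_inf.1 hg).1) hT, MonoidHom.mem_ker.2 ?_⟩
  rw [map_mul, map_mul, MonoidHom.mem_ker.1 hg.2, mul_one, map_inv, inv_mul_cancel]

include hF in
/-- Conjugation by an isometry. -/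
def conjHom (T : GL (Fin 4) F) (hT : T ∈ Cfsg.GU 4 F q) :
    ↥(Cfsg.GU 4 F q ⊓ specialLinear (Fin 4) F) →* ↥(Cfsg.GU 4 F q ⊓ specialLinear (Fin 4) F) :=
  MonoidHom.mk' (fun g => ⟨T⁻¹ * g.1 * T, conj_mem_G (hF := hF) hT g.2⟩)
    fun a b => Subtype.ext (by simp only [Subgroup.coe_mul]; group)

/-- The map in the coordinates of a basis. -/
noncomputable def Cx.psi (T : GL (Fin 4) F) (hT : T ∈ Cfsg.GU 4 F q) :
    ↥(Cfsg.GU 4 F q ⊓ specialLinear (Fin 4) F) →* quadIso (Q1 k 6) :=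
  S.phi.comp (conjHom (hF := hF) T hT)

theorem Cx.psi_range (T : GL (Fin 4) F) (hT : T ∈ Cfsg.GU 4 F q) (h3 : 3 ≤ q) (hk : Fintype.card k = q) :
    (S.psi T hT).range = commutator (quadIso (Q1 k 6)) := by
  have hcjs : Function.Surjective (conjHom (hF := hF) T hT) := fun g =>
    ⟨⟨T * g.1 * T⁻¹, by simpa using conj_mem_G (hF := hF) (inv_mem hT) g.2⟩, Subtype.ext (by
      show T⁻¹ * (T * g.1 * T⁻¹) * T = g.1
      group)⟩
  rw [Cx.psi, MonoidHom.range_comp, MonoidHom.range_eq_top.2 hcjs, ← MonoidHom.range_eq_map, S.range_phi h3 hk]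

theorem Cx.psi_std (T : GL (Fin 4) F) (hT : T ∈ Cfsg.GU 4 F q) {t : Fin 5} {g : ↥G}
    (hx : (g.1 : M4) * (T : M4) = (T : M4) * std S.i t) (v : Fin 6 → k) :
    (S.psi T hT g).1 v = fun j => if sgn t j then v j else -v j := by
  refine S.emb_inj ?_
  show S.emb ((S.phi (conjHom (hF := hF) T hT g)).1 v) = _
  rw [S.emb_phi, ← S.std_emb]
  congr 2
  show ((T⁻¹ * g.1 * T : GL (Fin 4) F) : M4) = std S.i t
  rw [Units.val_mul, Units.val_mul, Matrix.mul_assoc, hx, ← Matrix.mul_assoc, Units.inv_mul, Matrix.one_mul]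

theorem Cx.psi_ker (T : GL (Fin 4) F) (hT : T ∈ Cfsg.GU 4 F q) {g : ↥G} (hg : S.psi T hT g = 1) :
    g.1 = 1 ∨ g.1 = -1 := by
  obtain ⟨r, hr, e⟩ := S.scalar_of_phi (g := conjHom (hF := hF) T hT g) hg
  have e' : T⁻¹ * g.1 * T = 1 ∨ T⁻¹ * g.1 * T = -1 := by
    rcases mul_self_eq_one_iff.1 hr with h | h
    · exact Or.inl (Units.ext (e.trans (by rw [h, map_one]; rfl)))
    · exact Or.inr (Units.ext (e.trans (by rw [h, map_neg, map_one]; rfl)))
  rcases e' with e' | e'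
  · left; rw [show g.1 = T * (T⁻¹ * g.1 * T) * T⁻¹ by group, e', mul_one, mul_inv_cancel]
  · right; rw [show g.1 = T * (T⁻¹ * g.1 * T) * T⁻¹ by group, e', mul_neg, mul_one, neg_mul, mul_inv_cancel]

/-- Standard coordinates for `R`. -/
structure Std (S : Cx hF k) (R : Subgroup (GL (Fin 4) F)) (T : GL (Fin 4) F) : Prop where
  mem : T ∈ Cfsg.GU 4 F q
  sub : R ≤ Cfsg.GU 4 F q ⊓ specialLinear (Fin 4) F
  card : Nat.card R = 64
  neg : -1 ∈ R
  gen : ∃ x : Fin 5 → GL (Fin 4) F, R ≤ Subgroup.closure (Set.range x) ∧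
    ∀ t, x t ∈ R ∧ (x t : Matrix (Fin 4) (Fin 4) F) * (T : Matrix (Fin 4) (Fin 4) F) =
      (T : Matrix (Fin 4) (Fin 4) F) * std S.i t

variable {S}
variable {R : Subgroup (GL (Fin 4) F)} {T : GL (Fin 4) F}

theorem Std.diag_of_mem (D : Std S R T) {g : ↥G} (hg : g.1 ∈ R) : S.psi T D.mem g ∈ diag k := by
  obtain ⟨x, hcl, hx⟩ := D.gen
  have h1 : Subgroup.closure (Set.range x) ≤ ((diag k).comap (S.psi T D.mem)).map (Subgroup.subtype G) := by
    refine (Subgroup.closure_le _).2 ?_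
    rintro _ ⟨t, rfl⟩
    refine ⟨⟨x t, D.sub (hx t).1⟩, fun j => ?_, rfl⟩
    rw [S.psi_std T D.mem (hx t).2]
    by_cases hs : sgn t j
    · refine Or.inl (funext fun l => ?_)
      rw [ee_apply]
      by_cases hl : l = j
      · subst hl; simp [hs]
      · simp [hl]
    · refine Or.inr (funext fun l => ?_)
      rw [Pi.neg_apply, ee_apply]
      by_cases hl : l = j
      · subst hl; simp [hs]
      · simp [hl]
  obtain ⟨g', hg', e⟩ := h1 (hcl hg)
  rwa [← Subtype.ext (a1 := g') (a2 := g) e]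

theorem Std.mem_of_diag (D : Std S R T) (h3 : 3 ≤ q) (hk : Fintype.card k = q) {g : ↥G}
    (hg : S.psi T D.mem g ∈ diag k) : g.1 ∈ R := by
  classical
  let ψ := S.psi T D.mem
  have hrange : ψ.range = commutator (quadIso (Q1 k 6)) := S.psi_range T D.mem h3 hk
  have hker : ∀ y : ↥G, ψ y = 1 → y.1 ∈ R := fun y hy =>
    (S.psi_ker T D.mem hy).elim (fun e => e ▸ one_mem R) (fun e => e ▸ D.neg)
  let R' := R.subgroupOf G
  have hR' : Nat.card R' = 64 :=
    (Nat.card_congr (Subgroup.subgroupOfEquivOfLe D.sub).toEquiv).trans D.card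
  have himg : R'.map ψ = diag k ⊓ commutator (quadIso (Q1 k 6)) := by
    refine Subgroup.eq_of_le_of_card_ge ?_ ((card_diag_comm S.two_k).trans ?_)
    · rintro _ ⟨y, hy, rfl⟩
      exact ⟨D.diag_of_mem hy, hrange ▸ ⟨y, rfl⟩⟩
    · have hk2 : Nat.card (ψ.comp R'.subtype).ker ≤ 2 := by
        refine le_trans ?_ S.card_ker
        refine Nat.card_le_card_of_injective
          (fun y => ⟨conjHom (hF := hF) T D.mem y.1.1, MonoidHom.mem_ker.2 (MonoidHom.mem_ker.1 y.2)⟩)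
          fun a b e => ?_
        have e' := congrArg (fun z : S.phi.ker => z.1.1) e
        exact Subtype.ext (Subtype.ext (Subtype.ext (mul_left_cancel (mul_right_cancel e'))))
      have h1 := Subgroup.card_mul_index (ψ.comp R'.subtype).ker
      rw [Subgroup.index_ker, hR', MonoidHom.range_comp, Subgroup.range_subtype] at h1
      have := Nat.mul_le_mul_right (Nat.card (R'.map ψ)) hk2
      omega
  obtain ⟨r, hr, e⟩ := himg.ge ⟨hg, hrange ▸ ⟨g, rfl⟩⟩
  have h1 := hker (r⁻¹ * g) (by rw [map_mul, map_inv, e]; exact inv_mul_cancel _)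
  have h2 := mul_mem (show r.1 ∈ R from hr) h1
  rwa [Subgroup.coe_mul, Subgroup.coe_inv, mul_inv_cancel_left] at h2

theorem Std.mono_of_norm (D : Std S R T) {g : ↥G} (hg : g.1 ∈ subgroupNormalizer R) :
    Mono (S.psi T D.mem g) := by
  classical
  obtain ⟨x, hcl, hx⟩ := D.gen
  intro j
  refine Frame.isE_of_card (Frame.norm_image S.two_k _ j) (Finset.card_le_one.2 fun a ha b hb => ?_)
  by_contra hab
  obtain ⟨t, ht⟩ := sgn_sep a b hab
  rw [Frame.mem_supp] at ha hb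
  obtain ⟨z, hz⟩ : ∃ z : ↥G, z.1 = x t := ⟨⟨x t, D.sub (hx t).1⟩, rfl⟩
  have hy : (g⁻¹ * z * g).1 ∈ R := by
    have := (Subgroup.mem_normalizer_iff.1 (inv_mem hg) (x t)).1 (hx t).1
    rw [inv_inv] at this
    rw [Subgroup.coe_mul, Subgroup.coe_mul, Subgroup.coe_inv, hz]
    exact this
  have hd := D.diag_of_mem hy j
  rw [map_mul, map_mul, map_inv] at hd
  obtain ⟨ψg, hψg⟩ : ∃ w, w = S.psi T D.mem g := ⟨_, rfl⟩
  obtain ⟨ψz, hψz⟩ : ∃ w, w = S.psi T D.mem z := ⟨_, rfl⟩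
  rw [← hψg] at ha hb hd
  rw [← hψz] at hd
  obtain ⟨ε, hε⟩ : ∃ ε : k, (ψg⁻¹ * ψz * ψg).1 (ee j) = ε • ee j := by
    rcases hd with e | e
    · exact ⟨1, by rw [e, one_smul]⟩
    · exact ⟨-1, by rw [e, neg_one_smul]⟩
  have e : ψz.1 (ψg.1 (ee j)) = ε • ψg.1 (ee j) := by
    rw [← map_smul, ← hε]
    exact (ψg.1.apply_symm_apply _).symm
  rw [hψz, S.psi_std T D.mem (show (z.1 : M4) * _ = _ by rw [hz]; exact (hx t).2)] at e
  obtain ⟨v, hv⟩ : ∃ v, v = ψg.1 (ee j) := ⟨_, rfl⟩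
  rw [← hv] at e ha hb
  have ea := congrFun e a
  have eb := congrFun e b
  simp only [Pi.smul_apply, smul_eq_mul] at ea eb
  rcases hsa : sgn t a <;> rcases hsb : sgn t b <;> simp [hsa, hsb] at ea eb ht
  · have h1 : ε = -1 := mul_right_cancel₀ ha (by linear_combination -ea)
    exact hb ((mul_eq_zero.1 (show (2 : k) * v b = 0 by rw [h1] at eb; linear_combination eb)).resolve_left
      S.two_k)
  · have h1 : ε = 1 := mul_right_cancel₀ ha (by linear_combination -ea)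
    exact hb ((mul_eq_zero.1 (show (2 : k) * v b = 0 by rw [h1] at eb; linear_combination -eb)).resolve_left
      S.two_k)

theorem Std.norm_of_mono (D : Std S R T) (h3 : 3 ≤ q) (hk : Fintype.card k = q) {g : ↥G}
    (hg : Mono (S.psi T D.mem g)) : g.1 ∈ subgroupNormalizer R := by
  have hstep : ∀ y : ↥G, Mono (S.psi T D.mem y) → ∀ z ∈ R, y.1 * z * y.1⁻¹ ∈ R := fun y hy z hz => by
    obtain ⟨z', hz'⟩ : ∃ z' : ↥G, z'.1 = z := ⟨⟨z, D.sub hz⟩, rfl⟩
    rw [← hz']
    refine D.mem_of_diag h3 hk (g := y * z' * y⁻¹) fun j => ?_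
    rw [map_mul, map_mul, map_inv]
    have hd0 : ∀ l, (S.psi T D.mem z').1 (ee l) = ee l ∨ (S.psi T D.mem z').1 (ee l) = -ee l :=
      D.diag_of_mem (g := z') (by rw [hz']; exact hz)
    generalize S.psi T D.mem z' = a at hd0
    generalize S.psi T D.mem y = b at hy
    rw [Frame.Six.mul_app, Frame.Six.mul_app]
    obtain ⟨l, hl⟩ := Frame.Six.mono_inv hy j
    have e0 : b.1 (b⁻¹.1 (ee j)) = ee j := Frame.Six.map_inv' _ _
    rcases hl with e | e <;> rw [e] at e0 ⊢ <;> rcases hd0 l with e' | e'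
    · rw [e']; exact Or.inl e0
    · rw [e', map_neg, e0]; exact Or.inr rfl
    · rw [map_neg, e']; exact Or.inl e0
    · rw [map_neg, e', neg_neg]
      exact Or.inr (by rw [← e0, map_neg, neg_neg])
  refine Subgroup.mem_normalizer_iff.2 fun z => ⟨hstep g hg z, fun hz => ?_⟩
  have := hstep g⁻¹ (by rw [map_inv]; exact Frame.Six.mono_inv hg) _ hz
  rwa [Subgroup.coe_inv, inv_inv, show g.1⁻¹ * (g.1 * z * g.1⁻¹) * g.1 = z by group] at this

variable (S)

/-- Maximality from the monomial frame of six squares. -/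
theorem maximal_of_frame {Γ : Type*} [Group Γ] {G0 N : Subgroup Γ} (h2 : (2 : k) ≠ 0)
    (hp : (Fintype.card k).Prime) (ψ : ↥G0 →* quadIso (Q1 k 6))
    (hrange : ψ.range = commutator (quadIso (Q1 k 6))) (hiff : ∀ g : ↥G0, g.1 ∈ N ↔ Mono (ψ g)) :
    IsMaximalIn G0 (N ⊓ G0) := by
  classical
  have hnd := Frame.nondeg (F := k) (n := 6) h2
  have hfr : 5 ≤ finrank k (Fin 6 → k) := by simp
  refine ⟨lt_of_le_of_ne inf_le_right fun e => ?_, fun K hle hKG => ?_⟩
  · obtain ⟨v, hv, hvE⟩ := Frame.exists_not_isE (F := k) (n := 6) h2 (by norm_num)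
    obtain ⟨w, hw, hwv⟩ := OmegaSimple.transitive' (Q1 k 6) hnd hfr _
      (fun e w he0 he hew g hg => OmegaSimple.eich_mem (Q1 k 6) hnd hfr he0 he hew hg)
      (a := ee 0) (b := v) (by rw [Q1_apply, Frame.ee_norm]; exact one_ne_zero)
      (by rw [Q1_apply, Q1_apply, Frame.ee_norm, hv])
    rw [← OmegaSimple.commutator_eq (Q1 k 6) hnd hfr, ← hrange] at hw
    obtain ⟨g, rfl⟩ := hw
    have h1 : IsE ((ψ g).1 (ee 0)) := (hiff g).1 (Subgroup.mem_inf.1 (e.ge g.2)).1 0
    rw [hwv] at h1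
    exact hvE h1
  by_cases hKH : K ≤ N
  · exact Or.inl (le_antisymm (le_inf hKH hKG) hle)
  obtain ⟨g, hg, hgN⟩ := SetLike.not_le_iff_exists.1 hKH
  refine Or.inr (le_antisymm hKG fun y hy => ?_)
  have O : Ov ((K.subgroupOf G0).map ψ) := ⟨h2, fun z hz => hrange ▸ Subgroup.map_le_range _ _ hz,
    fun z hz hzm => by
      rw [← hrange] at hz
      obtain ⟨w, rfl⟩ := hz
      exact Subgroup.mem_map_of_mem ψ
        (show w.1 ∈ K from hle (Subgroup.mem_inf.2 ⟨(hiff w).2 hzm, w.2⟩))⟩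
  have htop := Frame.overgroup_top_six O hp
    (Subgroup.mem_map_of_mem ψ (show (⟨g, hKG hg⟩ : ↥G0) ∈ K.subgroupOf G0 from hg))
    fun hm => hgN ((hiff ⟨g, hKG hg⟩).2 hm)
  obtain ⟨w, hw, e⟩ := htop (hrange ▸ ⟨(⟨y, hy⟩ : ↥G0), rfl⟩ : ψ ⟨y, hy⟩ ∈ _)
  have h1 : Mono (ψ (w⁻¹ * ⟨y, hy⟩)) := by
    rw [map_mul, map_inv, e, inv_mul_cancel]; exact Frame.mono_one
  have h3' : (w⁻¹ * ⟨y, hy⟩ : ↥G0).1 ∈ K :=
    hle (Subgroup.mem_inf.2 ⟨(hiff _).2 h1, (w⁻¹ * ⟨y, hy⟩ : ↥G0).2⟩)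
  have := mul_mem (show w.1 ∈ K from hw) h3'
  rwa [Subgroup.coe_mul, Subgroup.coe_inv, mul_inv_cancel_left] at this

include hF S in
theorem pauli_maximal_of (hq : q.Prime) (hk : Fintype.card k = q) (h3 : 3 ≤ q) (R : Subgroup (GL (Fin 4) F))
    (hR : PauliFour.Sys R) (hc : Nat.card R = 64) (hz : Nat.card (Subgroup.center R) = 4)
    (hU : R ≤ Cfsg.GU 4 F q) : IsMaximalIn G (subgroupNormalizer R ⊓ G) := by
  classical
  obtain ⟨T, x, hT, hx, hcl⟩ := exists_coords (hF := hF) hR hz hU S.ii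
  have hxG : ∀ t, x t ∈ G := fun t => ⟨hU (hx t).1, MonoidHom.mem_ker.2 (Units.ext (by
    have e := congrArg Matrix.det (hx t).2
    rw [Matrix.det_mul, Matrix.det_mul, std_det S.ii, mul_one] at e
    exact mul_right_cancel₀ ((Matrix.isUnit_iff_isUnit_det _).1 T.isUnit).ne_zero (e.trans (one_mul _).symm)))⟩
  have D : Std S R T := ⟨hT, hcl.trans ((Subgroup.closure_le _).2 (by rintro _ ⟨t, rfl⟩; exact hxG t)),
    hc, hR.neg, x, hcl, hx⟩
  exact maximal_of_frame S.two_k (by rw [hk]; exact hq) (S.psi T D.mem) (S.psi_range T D.mem h3 hk)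
    fun g => ⟨D.mono_of_norm, D.norm_of_mono h3 hk⟩

end CfsgLib.MaxSub.SUFour.Klein

namespace CfsgLib.MaxSub.SUFour

open Cfsg Cfsg.Geo CfsgLib.UnitaryTransvection

/-- The normalisers of the symplectic-type groups are maximal in `SU_4(p)`. -/
theorem su4_pauli_maximal {F : Type*} [Field F] [Fintype F] {q : ℕ} (hF : Fintype.card F = q ^ 2) (p : ℕ)
    (R : Subgroup (Matrix.GeneralLinearGroup (Fin 4) F)) (hp : p.Prime) (hqp : q = p) (hp4 : p % 4 = 3)
    (hs : IsSymplecticTypeGroup 2 R) (hi : ActsAbsolutelyIrreducibly (matrixSet R)) (hU : R ≤ Cfsg.GU 4 F q)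
    (hc : Nat.card R = 64) (hz : Nat.card (Subgroup.center R) = 4) :
    IsMaximalIn (Cfsg.GU 4 F q ⊓ specialLinear (Fin 4) F)
      (subgroupNormalizer R ⊓ (Cfsg.GU 4 F q ⊓ specialLinear (Fin 4) F)) := by
  classical
  subst hqp
  have : Fact q.Prime := ⟨hp⟩
  have : CharP F q := by
    obtain ⟨r, hr⟩ := CharP.exists F
    obtain ⟨⟨n, hn⟩, hrp, hcard⟩ := FiniteField.card F r
    have h1 : r ∣ q ^ 2 := hF ▸ hcard ▸ dvd_pow_self r (by simp; omega)
    rwa [(Nat.prime_dvd_prime_iff_eq hrp hp).1 (hrp.dvd_of_dvd_pow h1)] at hr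
  have h2 : (2 : F) ≠ 0 := fun e => by
    have : q ∣ 2 := (CharP.cast_eq_zero_iff F q 2).1 (by exact_mod_cast e)
    rw [(Nat.prime_dvd_prime_iff_eq hp Nat.prime_two).1 this] at hp4
    omega
  obtain ⟨i, hii⟩ : IsSquare (-1 : F) := FiniteField.isSquare_neg_one_iff.2 (by
    rw [hF, Nat.pow_mod, hp4]; norm_num)
  have hσi : frob hF i = -i := by
    rw [frob_apply]
    obtain ⟨m, hm⟩ : ∃ m, q = 2 * (2 * m + 1) + 1 := ⟨q / 4, by omega⟩
    rw [hm, pow_succ, pow_mul, pow_two, ← hii, Odd.neg_one_pow ⟨m, rfl⟩]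
    ring
  have : Fintype (⊥ : Subfield F) := Fintype.ofFinite _
  have hk : Fintype.card (⊥ : Subfield F) = q := by
    rw [← Nat.card_eq_fintype_card]; exact Subfield.card_bot F q
  let S : Klein.Cx hF (⊥ : Subfield F) := ⟨(⊥ : Subfield F).subtype, i, hii.symm, hσi,
    fun a => (frob_apply hF _).trans ((Subfield.mem_bot_iff_pow_eq_self (F := F) (p := q)).1 a.2),
    fun x hx => ⟨⟨x, (Subfield.mem_bot_iff_pow_eq_self (F := F) (p := q)).2 ((frob_apply hF x).symm.trans hx)⟩, rfl⟩, h2⟩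
  have : Finite R := Nat.finite_of_card_ne_zero (by rw [hc]; norm_num)
  exact Klein.pauli_maximal_of S hp hk (by omega) R
    (PauliFour.Sys.of_hyp h2 (by simp) hs hi (Or.inl ⟨hz, by rw [hc]; norm_num⟩)) hc hz hU

end CfsgLib.MaxSub.SUFour
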